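import Mathlib
import Groth.Agent.CanonCplLib.Kill
import Groth.Agent.CanonLib.Basic
import Groth.Agent.MatlisLib.Basic
import Groth.Agent.InjHullLib.Matlis
import Groth.Agent.LocCohLib.MaxIdeal

/-! The Matlis dual of local cohomology over a complete local ring. -/

set_option autoImplicit false
set_option maxHeartbeats 1000000
set_option backward.isDefEq.respectTransparency false
universe u

namespace Groth.Agent.CanonCplLib

open CategoryTheory IsLocalRing LocCohLib

variable {A : Type u} [CommRing A] [IsLocalRing A] [IsNoetherianRing A] [IsAdicComplete (maximalIdeal A) A]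
  {E : Type u} [AddCommGroup E] [Module A E] {f : ResidueField A →ₗ[A] E}
  {M : Type u} [AddCommGroup M] [Module A M] [Module.Finite A M]

theorem finite_dual_H (hf : InjHull.IsInjectiveHull f) (i : ℕ) :
    Module.Finite A (LocCoh.H (maximalIdeal A) i M →ₗ[A] E) := by
  haveI : IsArtinian A (LocCoh.H (maximalIdeal A) i M) := isArtinian_H i M
  exact (InjHullLib.finite_dual_and_bijective hf _).1

theorem coheight_le_of_mem_support_dual (hf : InjHull.IsInjectiveHull f) (i : ℕ) (p : PrimeSpectrum A)
    (hp : p ∈ Module.support A (LocCoh.H (maximalIdeal A) i M →ₗ[A] E)) :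
    ringKrullDim (A ⧸ p.asIdeal) ≤ (i : WithBot ℕ∞) := by
  haveI := finite_dual_H (M := M) hf i
  by_contra hlt
  rw [not_le] at hlt
  obtain ⟨s, hs, hkill⟩ := exists_notMem_kill_H p.asIdeal M i hlt
  refine hs (Module.mem_support_iff_of_finite.mp hp (Module.mem_annihilator.mpr fun ξ => LinearMap.ext fun x => ?_))
  rw [LinearMap.smul_apply, ← map_smul, hkill, map_zero, LinearMap.zero_apply]

theorem supportDim_dual_le (hf : InjHull.IsInjectiveHull f) (i : ℕ) :
    Module.supportDim A (LocCoh.H (maximalIdeal A) i M →ₗ[A] E) ≤ (i : WithBot ℕ∞) := by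
  refine iSup_le fun l => ?_
  let l' := l.map Subtype.val (Subtype.strictMono_coe _)
  have h1 := coheight_le_of_mem_support_dual hf i l.head.1 l.head.2
  rw [CatLib.ringKrullDim_quotient_eq_coheight] at h1
  refine le_trans ?_ h1
  refine WithBot.coe_le_coe.mpr ?_
  have h2 := Order.length_le_coheight_head (p := l')
  simpa [l'] using h2

variable {n : ℕ}

theorem map_surjective_top' (hn : Module.supportDim A M ≤ (n : WithBot ℕ∞)) {N : Type u} [AddCommGroup N] [Module A N]
    (g : M →ₗ[A] N) (hg : Function.Surjective g) :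
    Function.Surjective ((localCohomology (maximalIdeal A) n).map (ModuleCat.ofHom g)).hom :=
  CanonLib.map_surjective_of_supportDim g hg (lt_of_le_of_lt
    ((Module.supportDim_le_of_injective (LinearMap.ker g).subtype Subtype.val_injective).trans hn)
    (by exact_mod_cast Nat.lt_succ_self n))

omit [IsAdicComplete (maximalIdeal A) A] in
theorem mem_range_smul_of_map_mkQ_eq_zero (hn : Module.supportDim A M ≤ (n : WithBot ℕ∞)) (q : Ideal A)
    (z : LocCoh.H (maximalIdeal A) n M)
    (hz : ((localCohomology (maximalIdeal A) n).map (ModuleCat.ofHom (q • (⊤ : Submodule A M)).mkQ)).hom z = 0) :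
    z ∈ q • (⊤ : Submodule A (LocCoh.H (maximalIdeal A) n M)) := by
  let m := maximalIdeal A
  obtain ⟨r, g, hg⟩ := Submodule.fg_iff_exists_fin_generating_family.1 (IsNoetherian.noetherian q)
  let W : Submodule A M := q • ⊤
  let Φ : (Fin r → M) →ₗ[A] W := LinearMap.codRestrict W (∑ a, g a • LinearMap.proj a) fun x => by
    rw [LinearMap.sum_apply]
    exact Submodule.sum_mem _ fun a _ => Submodule.smul_mem_smul (hg ▸ Submodule.subset_span ⟨a, rfl⟩) trivial
  have hΦ : Function.Surjective Φ := by
    rintro ⟨y, hy⟩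
    suffices y ∈ LinearMap.range (∑ a, g a • LinearMap.proj a : (Fin r → M) →ₗ[A] M) by
      obtain ⟨x, hx⟩ := this
      exact ⟨x, Subtype.ext hx⟩
    refine Submodule.smul_le.mpr (fun c hc x _ => ?_) hy
    rw [← hg, Submodule.mem_span_range_iff_exists_fun] at hc
    obtain ⟨w, rfl⟩ := hc
    refine ⟨fun a => w a • x, ?_⟩
    rw [LinearMap.sum_apply, Finset.sum_smul]
    refine Finset.sum_congr rfl fun a _ => ?_
    simp [smul_smul, mul_comm]
  let S : ShortComplex (ModuleCat.{u} A) := ShortComplex.mk (ModuleCat.ofHom W.subtype)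
    (ModuleCat.ofHom W.mkQ) (ModuleCat.hom_ext (LinearMap.ext fun x => (Submodule.Quotient.mk_eq_zero _).mpr x.2))
  have hS : S.ShortExact :=
    { exact := (ShortComplex.moduleCat_exact_iff _).mpr fun x hx =>
        ⟨⟨x, (Submodule.Quotient.mk_eq_zero W).mp hx⟩, rfl⟩
      mono_f := (ModuleCat.mono_iff_injective _).mpr Subtype.val_injective
      epi_g := (ModuleCat.epi_iff_surjective _).mpr (Submodule.mkQ_surjective _) }
  obtain ⟨y, hy⟩ := exists_of_map_g_eq_zero m hS n z hz
  have hΦH : Function.Surjective ((localCohomology m n).map (ModuleCat.ofHom Φ)).hom := by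
    refine CanonLib.map_surjective_of_supportDim Φ hΦ (lt_of_le_of_lt
      (Module.supportDim_le_of_injective (LinearMap.ker Φ).subtype Subtype.val_injective) (lt_of_le_of_lt ?_
        (show (n : WithBot ℕ∞) < ((n + 1 : ℕ) : WithBot ℕ∞) by exact_mod_cast Nat.lt_succ_self n)))
    refine le_trans ?_ hn
    rw [Module.supportDim_eq_ringKrullDim_quotient_annihilator, Module.supportDim_eq_ringKrullDim_quotient_annihilator]
    exact ringKrullDim_le_of_surjective (Ideal.Quotient.factor fun c hc => Module.mem_annihilator.mpr fun x =>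
      funext fun a => Module.mem_annihilator.mp hc (x a)) (Ideal.Quotient.factor_surjective _)
  obtain ⟨w, rfl⟩ := hΦH y
  rw [← hy]
  change ((localCohomology m n).map (ModuleCat.ofHom W.subtype)).hom (((localCohomology m n).map (ModuleCat.ofHom Φ)).hom w) ∈ _
  rw [← LinearMap.comp_apply, ← ModuleCat.hom_comp, ← Functor.map_comp,
    show ModuleCat.ofHom Φ ≫ ModuleCat.ofHom W.subtype =
      ∑ a, ModuleCat.ofHom (LinearMap.proj a : (Fin r → M) →ₗ[A] M) ≫ (g a • 𝟙 (ModuleCat.of A M)) from
      ModuleCat.hom_ext (LinearMap.ext fun x => by simp [Φ, ModuleCat.hom_sum]),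
    Functor.map_sum, ModuleCat.hom_sum, LinearMap.sum_apply]
  refine Submodule.sum_mem _ fun a _ => ?_
  rw [Functor.map_comp, ModuleCat.hom_comp, LinearMap.comp_apply, map_smul_id]
  exact Submodule.smul_mem_smul (hg ▸ Submodule.subset_span ⟨a, rfl⟩) trivial

theorem coheight_eq_of_mem_ass_dual (hf : InjHull.IsInjectiveHull f) (hn : Module.supportDim A M ≤ (n : WithBot ℕ∞))
    (q : Ideal A) (hq : q ∈ associatedPrimes A (LocCoh.H (maximalIdeal A) n M →ₗ[A] E)) :
    ringKrullDim (A ⧸ q) = n := by
  haveI := finite_dual_H (M := M) hf n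
  haveI := hq.isPrime
  obtain ⟨-, j, hj⟩ := (isAssociatedPrime_iff_exists_injective_linearMap _ _).1 hq
  refine le_antisymm (coheight_le_of_mem_support_dual hf n ⟨q, inferInstance⟩
    (Module.mem_support_iff_of_finite.mpr (Submodule.annihilator_top (R := A) (M := LocCoh.H (maximalIdeal A) n M →ₗ[A] E) ▸ hq.annihilator_le))) ?_
  by_contra hlt
  rw [not_le] at hlt
  have hx : j 1 ≠ 0 := fun h0 => by
    have := hj (h0.trans (map_zero j).symm)
    exact one_ne_zero this
  refine hx (LinearMap.ext fun z => ?_)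
  haveI : Subsingleton (LocCoh.H (maximalIdeal A) n (M ⧸ q • (⊤ : Submodule A M))) :=
    subsingleton_of_supportDim_lt _ _ n (lt_of_le_of_lt (CanonLib.supportDim_le_of_annihilates q fun a ha x => by
      obtain ⟨y, rfl⟩ := Submodule.mkQ_surjective _ x
      rw [← map_smul, Submodule.mkQ_apply, Submodule.Quotient.mk_eq_zero]
      exact Submodule.smul_mem_smul ha trivial) hlt)
  have hmem := mem_range_smul_of_map_mkQ_eq_zero hn q z (Subsingleton.elim (α := LocCoh.H (maximalIdeal A) n (M ⧸ q • (⊤ : Submodule A M))) _ _)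
  refine Submodule.smul_induction_on (p := fun z => j 1 z = (0 : LocCoh.H (maximalIdeal A) n M →ₗ[A] E) z) hmem
    (fun a ha x _ => ?_) (fun x y hx hy => by rw [map_add, map_add, hx, hy])
  have h0 : a • (1 : A ⧸ q) = 0 := by
    rw [Algebra.smul_def, mul_one, Ideal.Quotient.algebraMap_eq, Ideal.Quotient.eq_zero_iff_mem.mpr ha]
  rw [map_smul, ← LinearMap.smul_apply, ← map_smul, h0, map_zero]
  simp

theorem mem_support_dual (hf : InjHull.IsInjectiveHull f) (hn : Module.supportDim A M ≤ (n : WithBot ℕ∞))
    (q : PrimeSpectrum A) (hq : q ∈ Module.support A M) (hqn : ringKrullDim (A ⧸ q.asIdeal) = n) :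
    q ∈ Module.support A (LocCoh.H (maximalIdeal A) n M →ₗ[A] E) := by
  haveI := finite_dual_H (M := M) hf n
  by_contra hns
  rw [Module.mem_support_iff_of_finite, SetLike.not_le_iff_exists] at hns
  obtain ⟨s, hs, hsq⟩ := hns
  rw [← MatlisLib.annihilator_dual hf, Module.mem_annihilator] at hs
  let N := M ⧸ q.asIdeal • (⊤ : Submodule A M)
  have hkill : ∀ y : LocCoh.H (maximalIdeal A) n N, s • y = 0 := fun y => by
    obtain ⟨z, rfl⟩ := map_surjective_top' hn _ (Submodule.mkQ_surjective (q.asIdeal • (⊤ : Submodule A M))) y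
    rw [← map_smul, hs, map_zero]
  have hqN : q ∈ Module.support A N := by
    rw [Module.support_quotient]
    exact ⟨hq, by simp [PrimeSpectrum.mem_zeroLocus]⟩
  have hannN : ∀ a ∈ q.asIdeal, ∀ x : N, a • x = 0 := fun a ha x => by
    obtain ⟨y, rfl⟩ := Submodule.mkQ_surjective _ x
    rw [← map_smul, Submodule.mkQ_apply, Submodule.Quotient.mk_eq_zero]
    exact Submodule.smul_mem_smul ha trivial
  have hann : Module.annihilator A N = q.asIdeal :=
    le_antisymm (Module.mem_support_iff_of_finite.mp hqN) fun a ha => Module.mem_annihilator.mpr (hannN a ha)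
  have hdim : Module.supportDim A N = n := by
    rw [Module.supportDim_eq_ringKrullDim_quotient_annihilator, hann, hqn]
  have hb : Module.supportDim A (N ⧸ LinearMap.range (LinearMap.lsmul A N s)) < n := by
    refine lt_of_le_of_lt (CanonLib.supportDim_le_of_annihilates (q.asIdeal ⊔ Ideal.span {s}) fun b hb x => ?_) ?_
    · obtain ⟨b₁, hb₁, b₂, hb₂, rfl⟩ := Submodule.mem_sup.mp hb
      obtain ⟨c, rfl⟩ := Ideal.mem_span_singleton'.mp hb₂
      obtain ⟨y, rfl⟩ := Submodule.mkQ_surjective _ x
      rw [← map_smul, Submodule.mkQ_apply, Submodule.Quotient.mk_eq_zero, add_smul, hannN b₁ hb₁, zero_add]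
      exact ⟨c • y, by rw [LinearMap.lsmul_apply, smul_smul, mul_comm]⟩
    · have h1 := CanonLib.ringKrullDim_succ_le (I := q.asIdeal) (I' := q.asIdeal ⊔ Ideal.span {s}) le_sup_left
        fun P' hP' hle => by
        rw [Ideal.minimalPrimes_eq_subsingleton_self] at hP'
        rw [Set.mem_singleton_iff.mp hP'] at hle
        exact hsq (hle (Ideal.mem_sup_right (Ideal.mem_span_singleton_self s)))
      rw [hqn] at h1
      by_contra hlt
      rw [not_lt] at hlt
      have h3 : n + 1 ≤ n := by exact_mod_cast (add_le_add hlt le_rfl).trans h1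
      omega
  haveI : Nontrivial N := Module.nonempty_support_iff.mp ⟨q, hqN⟩
  haveI : Nontrivial (LocCoh.H (maximalIdeal A) n N) := nontrivial_H N n hdim
  obtain ⟨y, hy⟩ := exists_ne (0 : LocCoh.H (maximalIdeal A) n N)
  obtain ⟨w, hw⟩ := CanonLib.smul_surjective N s hdim.le hb y
  exact hy (hw.symm.trans (hkill w))

end Groth.Agent.CanonCplLib

namespace Groth.Agent.CanonCplLib

open CategoryTheory IsLocalRing LocCohLib

variable {A : Type u} [CommRing A] [IsLocalRing A] [IsNoetherianRing A]

theorem dim_quot_le_supportDim {N : Type u} [AddCommGroup N] [Module A N] [Module.Finite A N]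
    (q : PrimeSpectrum A) (hq : q ∈ Module.support A N) : ringKrullDim (A ⧸ q.asIdeal) ≤ Module.supportDim A N := by
  rw [Module.supportDim_eq_ringKrullDim_quotient_annihilator]
  exact ringKrullDim_le_of_surjective (Ideal.Quotient.factor (Module.mem_support_iff_of_finite.mp hq))
    (Ideal.Quotient.factor_surjective _)

theorem mem_ass_of_dim {N : Type u} [AddCommGroup N] [Module A N] [Module.Finite A N] {n : ℕ}
    (hN : Module.supportDim A N ≤ (n : WithBot ℕ∞)) (q : PrimeSpectrum A) (hq : q ∈ Module.support A N)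
    (hqn : ringKrullDim (A ⧸ q.asIdeal) = n) : q.asIdeal ∈ associatedPrimes A N := by
  refine Module.associatedPrimes.minimalPrimes_annihilator_subset_associatedPrimes A N
    ⟨⟨q.isPrime, Module.mem_support_iff_of_finite.mp hq⟩, fun p hp hpq => ?_⟩
  haveI := hp.1
  have h1 : ringKrullDim (A ⧸ p) = n := by
    refine le_antisymm ((dim_quot_le_supportDim ⟨p, hp.1⟩ (Module.mem_support_iff_of_finite.mpr hp.2)).trans hN) ?_
    rw [← hqn]
    exact ringKrullDim_le_of_surjective (Ideal.Quotient.factor hpq) (Ideal.Quotient.factor_surjective _)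
  exact (CanonLib.eq_of_le_of_dim hpq n h1 hqn).ge

theorem annihilator_le_H {M : Type u} [AddCommGroup M] [Module A M] (i : ℕ) :
    Module.annihilator A M ≤ Module.annihilator A (LocCoh.H (maximalIdeal A) i M) := fun r hr => by
  rw [Module.mem_annihilator]
  intro z
  rw [← map_smul_id (maximalIdeal A) i (ModuleCat.of A M) r z,
    show r • 𝟙 (ModuleCat.of A M) = 0 from ModuleCat.hom_ext (LinearMap.ext fun x => Module.mem_annihilator.mp hr x),
    Functor.map_zero]
  rfl

theorem exists_dim_eq {N : Type u} [AddCommGroup N] [Module A N] [Module.Finite A N] {n : ℕ}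
    (hN : Module.supportDim A N = n) : ∃ q ∈ Module.support A N, ringKrullDim (A ⧸ q.asIdeal) = n := by
  obtain ⟨l, hl⟩ : ∃ l : LTSeries (Module.support A N), l.length = n := Order.le_krullDim_iff.mp hN.ge
  let l' := l.map Subtype.val (Subtype.strictMono_coe _)
  refine ⟨l.head.1, l.head.2, le_antisymm ((dim_quot_le_supportDim _ l.head.2).trans hN.le) ?_⟩
  rw [CatLib.ringKrullDim_quotient_eq_coheight]
  refine WithBot.coe_le_coe.mpr ?_
  have h2 := Order.length_le_coheight_head (p := l')
  simpa [l', hl] using h2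

variable [IsAdicComplete (maximalIdeal A) A]

theorem dual_main {E : Type u} [AddCommGroup E] [Module A E] {f : ResidueField A →ₗ[A] E}
    (hf : InjHull.IsInjectiveHull f) (M : Type u) [AddCommGroup M] [Module A M] [Module.Finite A M] (n : ℕ)
    (hn : Module.supportDim A M = n) :
    Module.supportDim A (LocCoh.H (maximalIdeal A) n M →ₗ[A] E) = n ∧
      associatedPrimes A (LocCoh.H (maximalIdeal A) n M →ₗ[A] E) =
        {p | p ∈ associatedPrimes A M ∧ ringKrullDim (A ⧸ p) = n} := by
  haveI := finite_dual_H (M := M) hf n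
  obtain ⟨q, hq, hqn⟩ := exists_dim_eq hn
  refine ⟨le_antisymm (supportDim_dual_le hf n) ?_, Set.ext fun p => ⟨fun hp => ?_, fun hp => ?_⟩⟩
  · rw [← hqn]
    exact dim_quot_le_supportDim q (mem_support_dual hf hn.le q hq hqn)
  · haveI := hp.isPrime
    have h1 := coheight_eq_of_mem_ass_dual hf hn.le p hp
    refine ⟨mem_ass_of_dim hn.le ⟨p, inferInstance⟩ (Module.mem_support_iff_of_finite.mpr ?_) h1, h1⟩
    refine (annihilator_le_H n).trans ?_
    rw [MatlisLib.annihilator_dual hf]
    exact Submodule.annihilator_top (R := A) (M := LocCoh.H (maximalIdeal A) n M →ₗ[A] E) ▸ hp.annihilator_le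
  · obtain ⟨hp, hpn⟩ := hp
    haveI := hp.isPrime
    have hs : (⟨p, inferInstance⟩ : PrimeSpectrum A) ∈ Module.support A M :=
      Module.mem_support_iff_of_finite.mpr (Submodule.annihilator_top (R := A) (M := M) ▸ hp.annihilator_le)
    exact mem_ass_of_dim (supportDim_dual_le hf n) _ (mem_support_dual hf hn.le _ hs hpn) hpn

end Groth.Agent.CanonCplLib
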